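import Mathlib

set_option autoImplicit false

/-!
Abstract finite group theory: a simple group of order `2^6 * 3^6 * 7 * 13` with no elements of
order `14` or `21` has no element of order `91` (Burnside's transfer theorem).
-/

namespace Cfsg.Agent.Lib.Helper8.PG

open Subgroup

theorem fact7 : (4245696 : ℕ).factorization 7 = 1 := by
  have e : (4245696 : ℕ) = 7 * 606528 := by norm_num
  rw [e, Nat.factorization_mul (by norm_num) (by norm_num)]
  have h1 : (7 : ℕ).factorization 7 = 1 := Nat.Prime.factorization_self (by norm_num)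
  have h2 : (606528 : ℕ).factorization 7 = 0 :=
    Nat.factorization_eq_zero_of_not_dvd (by norm_num)
  simp [h1, h2]

theorem no_order_91 {G : Type*} [Group G] [Finite G] [IsSimpleGroup G]
    (hcard : Nat.card G = 4245696)
    (h14 : ∀ x : G, orderOf x ≠ 14) (h21 : ∀ x : G, orderOf x ≠ 21)
    (y : G) (hy : orderOf y = 91) : False := by
  haveI : Fact (Nat.Prime 7) := ⟨by norm_num⟩
  have hoz : orderOf (y ^ 13) = 7 := by
    rw [orderOf_pow' y (by norm_num), hy]
    norm_num
  set z := y ^ 13 with hz
  have hPcard : Nat.card (Subgroup.zpowers z) = 7 := by rw [Nat.card_zpowers, hoz]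
  have hfac : (Nat.card G).factorization 7 = 1 := by rw [hcard]; exact fact7
  let P : Sylow 7 G := Sylow.ofCard (Subgroup.zpowers z) (by rw [hPcard, hfac, pow_one])
  have hPcoe : (P : Subgroup G) = Subgroup.zpowers z := Sylow.coe_ofCard _ _
  have hPc : Nat.card (P : Subgroup G) = 7 := by rw [hPcoe, hPcard]
  -- the centralizer
  have hmemC : ∀ g : G, g ∈ centralizer ((P : Subgroup G) : Set G) ↔ Commute g z := by
    intro g
    rw [hPcoe]
    constructor
    · intro h
      exact (h z (Subgroup.mem_zpowers z)).symm
    · intro h w hw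
      obtain ⟨k, rfl⟩ := Subgroup.mem_zpowers_iff.mp hw
      exact ((h.zpow_right k).symm).eq
  have hyC : y ∈ centralizer ((P : Subgroup G) : Set G) := by
    rw [hmemC]
    exact (Commute.refl y).pow_right 13
  have hCdvd : Nat.card (centralizer ((P : Subgroup G) : Set G)) ∣ 4245696 :=
    hcard ▸ Subgroup.card_subgroup_dvd_card _
  have h91 : 91 ∣ Nat.card (centralizer ((P : Subgroup G) : Set G)) := by
    have := Subgroup.orderOf_dvd_natCard _ hyC
    rwa [hy] at this
  have hnodvd : ∀ q : ℕ, q.Prime → q ≠ 7 → (∀ x : G, orderOf x ≠ q * 7) →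
      ¬ q ∣ Nat.card (centralizer ((P : Subgroup G) : Set G)) := by
    intro q hq hq7 hno h
    have : Fact q.Prime := ⟨hq⟩
    obtain ⟨w, hw⟩ := exists_prime_orderOf_dvd_card' q h
    have hcomm : Commute (w : G) z := (hmemC _).mp w.2
    have hcop : (orderOf (w : G)).Coprime (orderOf z) := by
      rw [Subgroup.orderOf_coe, hw, hoz]
      exact (Nat.coprime_primes hq (by norm_num)).mpr hq7
    have := hcomm.orderOf_mul_eq_mul_orderOf_of_coprime hcop
    rw [Subgroup.orderOf_coe, hw, hoz] at this
    exact hno _ this
  have h2 := hnodvd 2 Nat.prime_two (by norm_num) (fun x => by simpa using h14 x)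
  have h3 := hnodvd 3 Nat.prime_three (by norm_num) (fun x => by simpa using h21 x)
  have hC : Nat.card (centralizer ((P : Subgroup G) : Set G)) = 91 := by
    have hcop : (Nat.card (centralizer ((P : Subgroup G) : Set G))).Coprime 46656 := by
      have e : (46656 : ℕ) = 2 ^ 6 * 3 ^ 6 := by norm_num
      rw [e]
      refine Nat.Coprime.mul_right (Nat.Coprime.pow_right _ ?_) (Nat.Coprime.pow_right _ ?_)
      · exact (Nat.coprime_comm.mp ((Nat.Prime.coprime_iff_not_dvd Nat.prime_two).mpr h2))
      · exact (Nat.coprime_comm.mp ((Nat.Prime.coprime_iff_not_dvd Nat.prime_three).mpr h3))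
    have e2 : (4245696 : ℕ) = 91 * 46656 := by norm_num
    rw [e2] at hCdvd
    exact Nat.dvd_antisymm (hcop.dvd_of_dvd_mul_right hCdvd) h91
  -- normalizer ≤ centralizer
  have hCN : centralizer ((P : Subgroup G) : Set G) ≤ normalizer ((P : Subgroup G) : Set G) :=
    centralizer_le_normalizer _
  have hNC : normalizer ((P : Subgroup G) : Set G) ≤ centralizer ((P : Subgroup G) : Set G) := by
    have key := Subgroup.card_dvd_of_injective _
      (QuotientGroup.kerLift_injective (P : Subgroup G).normalizerMonoidHom)
    rw [normalizerMonoidHom_ker, ← index, ← relIndex] at key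
    have hcyc : IsCyclic (P : Subgroup G) := isCyclic_of_prime_card hPc
    rw [IsCyclic.card_mulAut, hPc, Nat.totient_prime (by norm_num)] at key
    have h1 := card_sylow_modEq_one 7 G
    rw [Sylow.card_eq_index_normalizer P] at h1
    have h3 := Subgroup.relIndex_mul_index hCN
    have h4 := Subgroup.card_mul_index (centralizer ((P : Subgroup G) : Set G))
    rw [hC, hcard] at h4
    have h5 : (centralizer ((P : Subgroup G) : Set G)).index = 46656 := by omega
    rw [h5] at h3
    refine relIndex_eq_one.mp ?_
    have hle : (centralizer ((P : Subgroup G) : Set G)).relIndex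
        (normalizer ((P : Subgroup G) : Set G)) ≤ 6 := Nat.le_of_dvd (by norm_num) key
    have hpos : 0 < (centralizer ((P : Subgroup G) : Set G)).relIndex
        (normalizer ((P : Subgroup G) : Set G)) := Nat.pos_of_dvd_of_pos key (by norm_num)
    unfold Nat.ModEq at h1
    generalize (centralizer ((P : Subgroup G) : Set G)).relIndex
        (normalizer ((P : Subgroup G) : Set G)) = e at *
    generalize (normalizer ((P : Subgroup G) : Set G)).index = n at *
    interval_cases e <;> omega
  have hcomp := MonoidHom.ker_transferSylow_isComplement' P hNC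
  have hmul := hcomp.card_mul_card
  rw [hPc, hcard] at hmul
  rcases Subgroup.Normal.eq_bot_or_eq_top
    (inferInstance : (MonoidHom.transferSylow P hNC).ker.Normal) with h | h
  · rw [h, Subgroup.card_bot] at hmul
    omega
  · rw [h, Subgroup.card_top, hcard] at hmul
    omega

end Cfsg.Agent.Lib.Helper8.PG
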