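import Cfsg.Agent.Lib.Helper5.Chev.SteinbergFix
import Mathlib

/-!
# The smallest and largest standard parabolic subgroups of a Chevalley group (helper8)

`P_∅ = B`, `P_{all} = G`, `|P_{i}| = (1 + q) |B|`.
-/

set_option autoImplicit false

namespace Cfsg.Agent.Lib.Helper8.PG

open Cfsg Cfsg.Lie Cfsg.Agent.Lib.Helper5 Cfsg.Agent.Lib.Helper5.Chev

section abstract

variable {G : Type*} [Group G] (P : BNPair G)

theorem zpow_of_sq' {M : Type*} [Group M] {σ : M} (h : σ * σ = 1) (k : ℤ) :
    σ ^ k = 1 ∨ σ ^ k = σ := by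
  have h2 : σ ^ (2 : ℤ) = 1 := by
    rw [zpow_ofNat, pow_two]
    exact h
  rcases Int.even_or_odd' k with ⟨j, hj | hj⟩
  · left
    rw [hj, zpow_mul, h2, one_zpow]
  · right
    rw [hj, zpow_add, zpow_mul, h2, one_zpow, one_mul, zpow_one]

/-- a minimal parabolic subgroup is the union of two double cosets -/
theorem mem_parabolic_single {s : G} (hs : s ∈ P.S) (g : G) :
    g ∈ P.parabolic {s} ↔ g ∈ P.B ∨ g ∈ BN.D P s := by
  let n : P.N := ⟨s, P.subset hs⟩
  have hσ : BN.proj P n ∈ BN.Sbar P := ⟨n, hs, rfl⟩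
  have hC : BN.C P (BN.proj P n) = BN.D P s := BN.C_proj P n
  rw [BN.mem_parabolic_iff_W P (Set.singleton_subset_iff.2 hs)]
  constructor
  · rintro ⟨w, hw, hg⟩
    have hle : BN.bar P {s} ⊆ {BN.proj P n} := by
      rintro σ ⟨n', hn', rfl⟩
      rw [Set.mem_singleton_iff] at hn' ⊢
      congr 1
      exact Subtype.ext hn'
    have hw' := Subgroup.closure_mono hle hw
    rw [Subgroup.mem_closure_singleton] at hw'
    obtain ⟨k, rfl⟩ := hw'
    rcases zpow_of_sq' (BN.Sbar_sq P hσ) k with h | h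
    · left
      rw [h, BN.C_one] at hg
      exact hg
    · right
      rw [h, hC] at hg
      exact hg
  · rintro (h | h)
    · exact ⟨1, Subgroup.one_mem _, by rw [BN.C_one]; exact h⟩
    · exact ⟨_, Subgroup.subset_closure ⟨n, rfl, rfl⟩, by rw [hC]; exact h⟩

/-- the order of a minimal parabolic subgroup -/
theorem card_parabolic_single [Finite G] {s : G} (hs : s ∈ P.S) :
    Nat.card (P.parabolic {s}) = Nat.card P.B + Nat.card (BN.D P s) := by
  classical
  have hdisj : Disjoint (P.B : Set G) (BN.D P s) := by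
    rw [Set.disjoint_left]
    intro g hg hg'
    have h1 : BN.D P g = BN.D P s := BN.D_eq_of_mem P hg'
    have h2 : BN.D P g = (P.B : Set G) := BN.D_of_mem_B P hg
    have h3 : s ∈ P.B := BN.mem_B_of_D_eq P (h1.symm.trans h2)
    exact BN.S_not_mem_B P hs h3
  have hset : ((P.parabolic {s} : Subgroup G) : Set G) = (P.B : Set G) ∪ BN.D P s := by
    ext g
    rw [SetLike.mem_coe, mem_parabolic_single P hs, Set.mem_union, SetLike.mem_coe]
  have e1 : Nat.card (P.parabolic {s}) = ((P.parabolic {s} : Subgroup G) : Set G).ncard :=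
    Nat.card_coe_set_eq ((P.parabolic {s} : Subgroup G) : Set G)
  have e2 : Nat.card P.B = (P.B : Set G).ncard := Nat.card_coe_set_eq (P.B : Set G)
  have e3 : Nat.card (BN.D P s) = (BN.D P s).ncard := Nat.card_coe_set_eq _
  rw [e1, e2, e3, hset, Set.ncard_union_eq hdisj (Set.toFinite _) (Set.toFinite _)]

/-- the largest parabolic subgroup is the whole group -/
theorem parabolic_S_eq_top : P.parabolic P.S = ⊤ := by
  rw [eq_top_iff]
  intro g _
  rw [BN.mem_parabolic_iff_W P (le_refl _)]
  obtain ⟨n, hn⟩ := BN.exists_N_mem_D P g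
  refine ⟨BN.proj P n, ?_, by rw [BN.C_proj]; exact hn⟩
  have : BN.bar P P.S = BN.Sbar P := rfl
  rw [this, BN.closure_Sbar]
  exact Subgroup.mem_top _

end abstract

section chev

variable {F : Type*} [Field F] [Fintype F]

/-- the (B,N)-pair of a Chevalley group with its distinguished generators, the standard parabolic
subgroups and the orders of the rank one double cosets -/
theorem exists_bn_par (D : ChevalleyDatum)
    (hD : D ∈ [chevG2, chevB2, chevD4, chevF4, chevE6, chevE7, chevE8]) :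
    ∃ (P : BNPair ↥(D.group F)) (s : ℕ → ↥(D.group F)),
      P.B = (D.borelSubgroup F).subgroupOf (D.group F) ∧
      (∀ j < D.rank, s j ∈ P.S) ∧ (∀ t ∈ P.S, ∃ j < D.rank, t = s j) ∧
      (∀ j < D.rank, Nat.card (BN.D P (s j))
        = Fintype.card F * Nat.card (D.borelSubgroup F)) ∧
      (∀ J ⊆ Finset.range D.rank,
        D.parabolicIn F J = P.parabolic {t | ∃ j ∈ J, t = s j}) := by
  have hadd := allAdd_all (F := F) D hD
  obtain ⟨P, hPB, hPN, hPS⟩ := bnPair_all (F := F) D hD
  obtain ⟨T, Bs, mLL, gH, baseH, fuel, hA, hB, hr, hbase, hcox⟩ := cox_known D hD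
  obtain ⟨hc1, hc2⟩ := cox_of_check T Bs mLL hcox
  have hBG : D.borelSubgroup F ≤ D.group F := hadd.borel_le
  have hNG : D.monomialSubgroup F ≤ D.group F := hadd.monomial_le
  let s : ℕ → ↥(D.group F) := fun j => ⟨nUi hA hadd j, hNG (nUi_mem hA hadd j)⟩
  have hsS : ∀ j < D.rank, s j ∈ P.S := by
    intro j hj
    rw [hPS]
    exact ⟨j, hj, nUi_val hA hadd hj⟩
  have hSeq : ∀ t ∈ P.S, ∃ j < D.rank, t = s j := by
    intro t ht
    rw [hPS] at ht
    obtain ⟨j, hj, htj⟩ := ht
    refine ⟨j, hj, ?_⟩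
    apply Subtype.ext
    apply Units.ext
    rw [htj]
    exact (nUi_val hA hadd hj).symm
  refine ⟨P, s, hPB, hsS, hSeq, ?_, ?_⟩
  · -- the double cosets
    intro j hj
    have hcard := card_dc_nUi (F := F) hD hA hadd Bs hB hc1 hj
    rw [Nat.card_eq_fintype_card (α := F)] at hcard
    rw [← hcard, Nat.card_coe_set_eq, Nat.card_coe_set_eq]
    have himg : (Subtype.val : ↥(D.group F) → GL D.Idx F) '' (BN.D P (s j))
        = dc (D.borelSubgroup F) (nUi hA hadd j) := by
      ext y
      constructor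
      · rintro ⟨x, hx, rfl⟩
        rw [BN.mem_D] at hx
        obtain ⟨b, hb, b', hb', rfl⟩ := hx
        rw [hPB, Subgroup.mem_subgroupOf] at hb hb'
        rw [mem_dc]
        refine ⟨b, hb, b', hb', ?_⟩
        rw [Subgroup.coe_mul, Subgroup.coe_mul]
      · intro hy
        rw [mem_dc] at hy
        obtain ⟨b, hb, b', hb', rfl⟩ := hy
        have hmem : (⟨b, hBG hb⟩ : ↥(D.group F)) * s j * ⟨b', hBG hb'⟩ ∈ BN.D P (s j) := by
          rw [BN.mem_D]
          refine ⟨⟨b, hBG hb⟩, ?_, ⟨b', hBG hb'⟩, ?_, rfl⟩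
          · rw [hPB, Subgroup.mem_subgroupOf]
            exact hb
          · rw [hPB, Subgroup.mem_subgroupOf]
            exact hb'
        refine ⟨_, hmem, ?_⟩
        rw [Subgroup.coe_mul, Subgroup.coe_mul]
    rw [← himg, Set.ncard_image_of_injective _ Subtype.val_injective]
  · -- the parabolic subgroups
    intro J hJ
    unfold ChevalleyDatum.parabolicIn ChevalleyDatum.parabolicSubgroup BNPair.parabolic
    have hcl : Subgroup.closure {g : GL D.Idx F | ∃ j ∈ (J : Set ℕ), j < D.rank ∧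
        (g : Matrix D.Idx D.Idx F) = D.nMat F (D.simple j) 1} ≤ D.group F := by
      rw [Subgroup.closure_le]
      rintro g ⟨j, -, hj, hg⟩
      have : g = nUi hA hadd j := Units.ext (by rw [hg, nUi_val hA hadd hj])
      rw [this]
      exact hNG (nUi_mem hA hadd j)
    rw [sup_subgroupOf _ _ _ hBG hcl, hPB]
    congr 1
    rw [closure_subgroupOf _ _ ((Subgroup.closure_le _).1 hcl)]
    congr 1
    ext t
    constructor
    · rintro ⟨j, hj, hjr, ht⟩
      refine ⟨j, hj, ?_⟩
      apply Subtype.ext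
      apply Units.ext
      rw [ht]
      exact (nUi_val hA hadd hjr).symm
    · rintro ⟨j, hj, rfl⟩
      have hjr := Finset.mem_range.1 (hJ hj)
      exact ⟨j, hj, hjr, nUi_val hA hadd hjr⟩

omit [Fintype F] in
/-- `P_∅ = B` -/
theorem parabolicIn_empty (D : ChevalleyDatum) :
    D.parabolicIn F ∅ = (D.borelSubgroup F).subgroupOf (D.group F) := by
  unfold ChevalleyDatum.parabolicIn ChevalleyDatum.parabolicSubgroup
  have : {g : GL D.Idx F | ∃ j ∈ ((∅ : Finset ℕ) : Set ℕ), j < D.rank ∧
      (g : Matrix D.Idx D.Idx F) = D.nMat F (D.simple j) 1} = ∅ := by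
    ext g
    simp
  rw [this, Subgroup.closure_empty, sup_bot_eq]

/-- the orders of the Borel subgroup, the minimal parabolic subgroups, and the largest parabolic
subgroup -/
theorem card_parabolicIn (D : ChevalleyDatum)
    (hD : D ∈ [chevG2, chevB2, chevD4, chevF4, chevE6, chevE7, chevE8]) :
    Nat.card (D.parabolicIn F ∅) = Nat.card (D.borelSubgroup F) ∧
    (∀ i < D.rank, Nat.card (D.parabolicIn F {i})
      = (1 + Fintype.card F) * Nat.card (D.borelSubgroup F)) ∧
    D.parabolicIn F (Finset.range D.rank) = ⊤ := by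
  have hadd := allAdd_all (F := F) D hD
  have hBG : D.borelSubgroup F ≤ D.group F := hadd.borel_le
  obtain ⟨P, s, hPB, hsS, hSeq, hcard, hpar⟩ := exists_bn_par (F := F) D hD
  have hB : Nat.card ((D.borelSubgroup F).subgroupOf (D.group F)) = Nat.card (D.borelSubgroup F) :=
    Nat.card_congr (Subgroup.subgroupOfEquivOfLe hBG).toEquiv
  refine ⟨?_, ?_, ?_⟩
  · rw [parabolicIn_empty, hB]
  · intro i hi
    have hJ : ({i} : Finset ℕ) ⊆ Finset.range D.rank := by
      intro j hj
      rw [Finset.mem_singleton] at hj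
      rw [hj]
      exact Finset.mem_range.2 hi
    have hset : {t : ↥(D.group F) | ∃ j ∈ ({i} : Finset ℕ), t = s j} = {s i} := by
      ext t
      simp
    rw [hpar _ hJ, hset, card_parabolic_single P (hsS i hi), hcard i hi, hPB, hB]
    ring
  · have hset : {t : ↥(D.group F) | ∃ j ∈ Finset.range D.rank, t = s j} = P.S := by
      ext t
      constructor
      · rintro ⟨j, hj, rfl⟩
        exact hsS j (Finset.mem_range.1 hj)
      · intro ht
        obtain ⟨j, hj, rfl⟩ := hSeq t ht
        exact ⟨j, Finset.mem_range.2 hj, rfl⟩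
    rw [hpar _ (le_refl _), hset, parabolic_S_eq_top]

end chev

end Cfsg.Agent.Lib.Helper8.PG
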