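import Mathlib

/-!
# Fixed cosets of an element and a commuting element of prime order (helper8)
-/

set_option autoImplicit false

namespace Cfsg.Agent.Lib.Helper8.PG

variable {G : Type*} [Group G]

/-- if `b` of prime order `r` commutes with `u` and is conjugate to no element of `Q`, then `r`
divides the number of cosets of `Q` fixed by `u` -/
theorem dvd_card_fixedBy [Finite G] (Q : Subgroup G) (u b : G) (hc : Commute b u) (r : ℕ)
    [Fact r.Prime] (hb : orderOf b = r) (hfree : ∀ g : G, g⁻¹ * b * g ∉ Q) :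
    r ∣ Nat.card (MulAction.fixedBy (G ⧸ Q) u) := by
  classical
  have hstab : ∀ y : G, Commute y u → ∀ v ∈ MulAction.fixedBy (G ⧸ Q) u,
      y • v ∈ MulAction.fixedBy (G ⧸ Q) u := by
    intro y hy v hv
    rw [MulAction.mem_fixedBy] at hv ⊢
    rw [← mul_smul, ← hy.eq, mul_smul, hv]
  let e : Equiv.Perm (MulAction.fixedBy (G ⧸ Q) u) :=
    { toFun := fun v => ⟨b • v.1, hstab b hc v.1 v.2⟩
      invFun := fun v => ⟨b⁻¹ • v.1, hstab b⁻¹ hc.inv_left v.1 v.2⟩
      left_inv := fun v => Subtype.ext (inv_smul_smul b v.1)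
      right_inv := fun v => Subtype.ext (smul_inv_smul b v.1) }
  have hpow : ∀ k : ℕ, ∀ v : MulAction.fixedBy (G ⧸ Q) u,
      ((e ^ k) v : G ⧸ Q) = b ^ k • (v : G ⧸ Q) := by
    intro k
    induction k with
    | zero => intro v; simp
    | succ k ih =>
      intro v
      rw [pow_succ', Equiv.Perm.mul_apply, pow_succ', mul_smul, ← ih v]
      rfl
  have he : e ^ r ^ 1 = 1 := by
    ext v
    rw [pow_one, hpow, ← hb, pow_orderOf_eq_one, one_smul]
    rfl
  have : Fintype (MulAction.fixedBy (G ⧸ Q) u) := Fintype.ofFinite _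
  by_contra hnd
  have hnd' : ¬ r ∣ Fintype.card (MulAction.fixedBy (G ⧸ Q) u) := by
    rw [← Nat.card_eq_fintype_card]
    exact hnd
  obtain ⟨v, hv⟩ := Equiv.Perm.exists_fixed_point_of_prime hnd' he
  obtain ⟨g, hg⟩ := QuotientGroup.mk_surjective v.1
  have h1 : b • (v : G ⧸ Q) = v := congrArg Subtype.val hv
  rw [← hg] at h1
  have h1' : ((b * g : G) : G ⧸ Q) = (g : G ⧸ Q) := h1
  rw [QuotientGroup.eq] at h1'
  have h2 : ((b * g)⁻¹ * g)⁻¹ ∈ Q := Q.inv_mem h1'
  have e2 : ((b * g)⁻¹ * g)⁻¹ = g⁻¹ * b * g := by group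
  rw [e2] at h2
  exact hfree g h2

end Cfsg.Agent.Lib.Helper8.PG
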