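import Cfsg.Agent.Lib.Helper8.PG.G2Three
import Mathlib

/-!
# The prime graph of `G₂(3)`, continued (helper8)
-/

set_option autoImplicit false

namespace Cfsg.Agent.Lib.Helper8.PG

open Cfsg Cfsg.Lie Cfsg.Agent.Lib.Helper5 Cfsg.Agent.Lib.Helper5.Chev

section g2

variable {F : Type*} [Field F]

/-- an element of order `6` in `SL₂` in characteristic `3` -/
theorem sl2_three_exists_six [CharP F 3] :
    ∃ A : Matrix.SpecialLinearGroup (Fin 2) F, orderOf A = 6 := by
  have h3 : (3 : F) = 0 := by
    have := CharP.cast_eq_zero F 3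
    exact_mod_cast this
  have h2 : (2 : F) ≠ 0 := by
    intro h
    have h1 : (1 : F) = 0 := by linear_combination h3 - h
    exact one_ne_zero h1
  let A : Matrix.SpecialLinearGroup (Fin 2) F :=
    ⟨!![-1, -1; 0, -1], by simp [Matrix.det_fin_two]⟩
  have hA2 : ((A ^ 2 : Matrix.SpecialLinearGroup (Fin 2) F) : Matrix (Fin 2) (Fin 2) F)
      = !![1, 2; 0, 1] := by
    rw [pow_two, Matrix.SpecialLinearGroup.coe_mul]
    show (!![-1, -1; 0, -1] : Matrix (Fin 2) (Fin 2) F) * !![-1, -1; 0, -1] = _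
    rw [Matrix.mul_fin_two]
    congr 1
    norm_num
  have hA3 : ((A ^ 3 : Matrix.SpecialLinearGroup (Fin 2) F) : Matrix (Fin 2) (Fin 2) F)
      = !![-1, 0; 0, -1] := by
    rw [pow_succ, Matrix.SpecialLinearGroup.coe_mul, hA2]
    show (!![1, 2; 0, 1] : Matrix (Fin 2) (Fin 2) F) * !![-1, -1; 0, -1] = _
    rw [Matrix.mul_fin_two]
    ext i j
    fin_cases i <;> fin_cases j <;> simp
    linear_combination -h3
  have hA6 : A ^ 6 = 1 := by
    apply Subtype.ext
    have e : A ^ 6 = A ^ 3 * A ^ 3 := by rw [← pow_add]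
    rw [e, Matrix.SpecialLinearGroup.coe_mul, hA3, Matrix.mul_fin_two]
    ext i j
    fin_cases i <;> fin_cases j <;> simp
  refine ⟨A, ?_⟩
  apply orderOf_eq_of_pow_and_pow_div_prime (by norm_num) hA6
  intro p hp hpd
  have hp' : p = 2 ∨ p = 3 := by
    have : p ∣ 2 * 3 := hpd
    rcases (Nat.Prime.dvd_mul hp).1 this with h | h
    · exact Or.inl ((Nat.prime_dvd_prime_iff_eq hp Nat.prime_two).1 h)
    · exact Or.inr ((Nat.prime_dvd_prime_iff_eq hp Nat.prime_three).1 h)
  rcases hp' with rfl | rfl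
  · intro h
    have h' : A ^ 3 = 1 := h
    have := congrArg (fun M : Matrix.SpecialLinearGroup (Fin 2) F =>
      (M : Matrix (Fin 2) (Fin 2) F) 0 0) h'
    simp only [hA3] at this
    simp at this
    apply h2
    linear_combination -this
  · intro h
    have h' : A ^ 2 = 1 := h
    have := congrArg (fun M : Matrix.SpecialLinearGroup (Fin 2) F =>
      (M : Matrix (Fin 2) (Fin 2) F) 0 1) h'
    simp only [hA2] at this
    simp at this
    exact h2 this

variable [Fintype F]

/-- an element of order `6` in `G₂(3)` -/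
theorem g2_three_exists_six (hF : Fintype.card F = 3) :
    ∃ x : ↥(chevG2.group F), orderOf x = 6 := by
  have := charP_three_of_card hF
  have : Fact (Nat.Prime 2) := ⟨Nat.prime_two⟩
  have h2 : 2 ∣ Nat.card ↥(chevG2.group F) := by
    rw [card_g2_three hF]
    norm_num
  obtain ⟨t, ht⟩ := exists_prime_orderOf_dvd_card' 2 h2
  have hodd : Odd (Fintype.card F) := by rw [hF]; decide
  obtain ⟨-, L₁, -, ⟨e⟩, -⟩ := Cfsg.Agent.S4279.result hodd t ht
  obtain ⟨A, hA⟩ := sl2_three_exists_six (F := F)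
  refine ⟨((e.symm A : L₁) : ↥(chevG2.group F)), ?_⟩
  rw [Subgroup.orderOf_coe, MulEquiv.orderOf_eq, hA]

/-- `G₂(3)` is simple -/
theorem g2_three_simple (hF : Fintype.card F = 3) : IsSimpleGroup ↥(chevG2.group F) := by
  have := charP_three_of_card hF
  have h3 : (3 : F) = 0 := by
    have := CharP.cast_eq_zero F 3
    exact_mod_cast this
  refine (simple_all (F := F) chevG2 hDG2 (fun _ => ⟨-1, ?_, ?_⟩)).1
  · exact neg_ne_zero.mpr one_ne_zero
  · intro h
    have h1 : (1 : F) = 0 := by linear_combination h3 + h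
    exact one_ne_zero h1

/-- the only products of two distinct primes which are element orders of `G₂(3)` are `2 * 3` -/
theorem g2_three_mul_primes (hF : Fintype.card F = 3) (x : ↥(chevG2.group F)) {r s : ℕ}
    (hr : r.Prime) (hs : s.Prime) (hrs : r ≠ s) (ho : orderOf x = r * s) :
    (r = 2 ∧ s = 3) ∨ (r = 3 ∧ s = 2) := by
  by_cases r2 : r = 2
  · by_cases s3 : s = 3
    · exact Or.inl ⟨r2, s3⟩
    · exact (no_two_mul hF s hs (fun h => hrs (r2.trans h.symm)) s3 x (by rw [ho, r2])).elim
  by_cases r3 : r = 3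
  · by_cases s2 : s = 2
    · exact Or.inr ⟨r3, s2⟩
    · exact (no_three_mul hF s hs s2 (fun h => hrs (r3.trans h.symm)) x (by rw [ho, r3])).elim
  by_cases s2 : s = 2
  · exact (no_two_mul hF r hr r2 r3 x (by rw [ho, s2, mul_comm])).elim
  by_cases s3 : s = 3
  · exact (no_three_mul hF r hr r2 r3 x (by rw [ho, s3, mul_comm])).elim
  -- both in {7, 13}
  exfalso
  have hrd : r ∣ Nat.card ↥(chevG2.group F) :=
    (Dvd.intro _ rfl : r ∣ r * s).trans (ho ▸ orderOf_dvd_natCard x)
  have hsd : s ∣ Nat.card ↥(chevG2.group F) :=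
    (Dvd.intro_left _ rfl : s ∣ r * s).trans (ho ▸ orderOf_dvd_natCard x)
  rw [prime_dvd_card_g2_three hF r hr] at hrd
  rw [prime_dvd_card_g2_three hF s hs] at hsd
  have h91 : r * s = 91 := by
    rcases hrd with h | h | h | h <;> rcases hsd with h' | h' | h' | h' <;>
      first
      | exact absurd h r2
      | exact absurd h r3
      | exact absurd h' s2
      | exact absurd h' s3
      | exact absurd (h.trans h'.symm) hrs
      | (rw [h, h'])
  have := g2_three_simple hF
  exact no_order_91 (card_g2_three hF)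
    (fun y hy => no_two_mul hF 7 (by norm_num) (by norm_num) (by norm_num) y hy)
    (fun y hy => no_three_mul hF 7 (by norm_num) (by norm_num) (by norm_num) y hy)
    x (ho.trans h91)

end g2

end Cfsg.Agent.Lib.Helper8.PG
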