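import Cfsg.Agent.S1059
import Cfsg.Agent.S2328
import Cfsg.Agent.S4279
import Cfsg.Agent.Lib.Helper5.Chev.SimpleChev
import Cfsg.Agent.Lib.Helper8.PG.ChevPar
import Cfsg.Agent.Lib.Helper8.PG.FixDvd
import Cfsg.Agent.Lib.Helper8.PG.Burnside91
import Mathlib

/-!
# The prime graph of `G₂(3)` (helper8)
-/

set_option autoImplicit false

namespace Cfsg.Agent.Lib.Helper8.PG

open Cfsg Cfsg.Lie Cfsg.Agent.Lib.Helper5 Cfsg.Agent.Lib.Helper5.Chev

section g2

variable {F : Type*} [Field F] [Fintype F]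

theorem charP_three_of_card (hF : Fintype.card F = 3) : CharP F 3 := by
  obtain ⟨p, hp⟩ := CharP.exists F
  obtain ⟨n, hpp, hn⟩ := FiniteField.card F p
  have h1 : p ∣ 3 := by
    have : p ∣ p ^ (n : ℕ) := dvd_pow_self p n.ne_zero
    rw [← hn, hF] at this
    exact this
  have h2 : p = 3 := (Nat.prime_dvd_prime_iff_eq hpp (by norm_num)).1 h1
  rw [← h2]
  exact hp

theorem hDG2 : chevG2 ∈ [chevG2, chevB2, chevD4, chevF4, chevE6, chevE7, chevE8] := by simp

theorem card_g2_three (hF : Fintype.card F = 3) : Nat.card ↥(chevG2.group F) = 4245696 := by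
  rw [Cfsg.Agent.S1059.result hF]
  norm_num

theorem prime_dvd_iff (p : ℕ) (hp : p.Prime) :
    p ∣ 4245696 ↔ p = 2 ∨ p = 3 ∨ p = 7 ∨ p = 13 := by
  have e : (4245696 : ℕ) = 2 ^ 6 * 3 ^ 6 * 7 * 13 := by norm_num
  rw [e]
  constructor
  · intro h
    rcases (Nat.Prime.dvd_mul hp).1 h with h | h
    · rcases (Nat.Prime.dvd_mul hp).1 h with h | h
      · rcases (Nat.Prime.dvd_mul hp).1 h with h | h
        · exact Or.inl ((Nat.prime_dvd_prime_iff_eq hp Nat.prime_two).1 (hp.dvd_of_dvd_pow h))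
        · exact Or.inr (Or.inl
            ((Nat.prime_dvd_prime_iff_eq hp Nat.prime_three).1 (hp.dvd_of_dvd_pow h)))
      · exact Or.inr (Or.inr (Or.inl ((Nat.prime_dvd_prime_iff_eq hp (by norm_num)).1 h)))
    · exact Or.inr (Or.inr (Or.inr ((Nat.prime_dvd_prime_iff_eq hp (by norm_num)).1 h)))
  · rintro (rfl | rfl | rfl | rfl) <;> norm_num

theorem prime_dvd_card_g2_three (hF : Fintype.card F = 3) (p : ℕ) (hp : p.Prime) :
    p ∣ Nat.card ↥(chevG2.group F) ↔ p = 2 ∨ p = 3 ∨ p = 7 ∨ p = 13 := by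
  rw [card_g2_three hF, prime_dvd_iff p hp]

theorem card_borel_g2_three (hF : Fintype.card F = 3) :
    Nat.card (chevG2.borelSubgroup F) = 2916 := by
  rw [card_borel chevG2 hDG2, card_posUnipotent chevG2 hDG2, card_diagonal_G2,
    Nat.card_eq_fintype_card, hF]
  have e : chevG2.nroots / 2 = 6 := by decide
  rw [e]
  norm_num

theorem card_par_dvd (hF : Fintype.card F = 3) (J : Finset ℕ)
    (hJ : J = ∅ ∨ J = {0} ∨ J = {1}) : Nat.card (chevG2.parabolicIn F J) ∣ 11664 := by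
  obtain ⟨h0, h1, -⟩ := card_parabolicIn (F := F) chevG2 hDG2
  have hr : chevG2.rank = 2 := by decide
  rcases hJ with rfl | rfl | rfl
  · rw [h0, card_borel_g2_three hF]
    norm_num
  · rw [h1 0 (by rw [hr]; norm_num), hF, card_borel_g2_three hF]
  · rw [h1 1 (by rw [hr]; norm_num), hF, card_borel_g2_three hF]

theorem prime_dvd_11664 (r : ℕ) (hr : r.Prime) (h : r ∣ 11664) : r = 2 ∨ r = 3 := by
  have e : (11664 : ℕ) = 2 ^ 4 * 3 ^ 6 := by norm_num
  rw [e] at h
  rcases (Nat.Prime.dvd_mul hr).1 h with h | h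
  · exact Or.inl ((Nat.prime_dvd_prime_iff_eq hr Nat.prime_two).1 (hr.dvd_of_dvd_pow h))
  · exact Or.inr ((Nat.prime_dvd_prime_iff_eq hr Nat.prime_three).1 (hr.dvd_of_dvd_pow h))

theorem prime_dvd_576 (r : ℕ) (hr : r.Prime) (h : r ∣ 576) : r = 2 ∨ r = 3 := by
  have e : (576 : ℕ) = 2 ^ 6 * 3 ^ 2 := by norm_num
  rw [e] at h
  rcases (Nat.Prime.dvd_mul hr).1 h with h | h
  · exact Or.inl ((Nat.prime_dvd_prime_iff_eq hr Nat.prime_two).1 (hr.dvd_of_dvd_pow h))
  · exact Or.inr ((Nat.prime_dvd_prime_iff_eq hr Nat.prime_three).1 (hr.dvd_of_dvd_pow h))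

omit [Fintype F] in
theorem steinberg_g2_expand (g : ↥(chevG2.group F)) :
    chevG2.steinbergCharacter F g
      = fixedPointCharacter (chevG2.parabolicIn F ∅) g
        - fixedPointCharacter (chevG2.parabolicIn F {0}) g
        - fixedPointCharacter (chevG2.parabolicIn F {1}) g
        + fixedPointCharacter (chevG2.parabolicIn F (Finset.range chevG2.rank)) g := by
  unfold ChevalleyDatum.steinbergCharacter
  have hp : ({0, 1} : Finset ℕ).powerset = {∅, {0}, {1}, {0, 1}} := by decide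
  have h01 : (Finset.range chevG2.rank) = {0, 1} := by decide
  rw [h01, hp]
  rw [Finset.sum_insert (by decide), Finset.sum_insert (by decide),
    Finset.sum_insert (by decide), Finset.sum_singleton]
  have c2 : ({0, 1} : Finset ℕ).card = 2 := by decide
  rw [Finset.card_empty, Finset.card_singleton, Finset.card_singleton, c2]
  ring

theorem fixedBy_top_card {G : Type*} [Group G] (u : G) :
    Nat.card (MulAction.fixedBy (G ⧸ (⊤ : Subgroup G)) u) = 1 := by
  have hs : Subsingleton (G ⧸ (⊤ : Subgroup G)) := QuotientGroup.subsingleton_quotient_top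
  have : Subsingleton (MulAction.fixedBy (G ⧸ (⊤ : Subgroup G)) u) :=
    ⟨fun a b => Subtype.ext (Subsingleton.elim _ _)⟩
  have : Nonempty (MulAction.fixedBy (G ⧸ (⊤ : Subgroup G)) u) :=
    ⟨⟨((1 : G) : G ⧸ (⊤ : Subgroup G)), Subsingleton.elim _ _⟩⟩
  exact Nat.card_eq_one_iff_unique.mpr ⟨inferInstance, inferInstance⟩

theorem orderOf_conj' {G : Type*} [Group G] (g b : G) : orderOf (g⁻¹ * b * g) = orderOf b := by
  have h := orderOf_injective (MulAut.conj g⁻¹).toMonoidHom (MulAut.conj g⁻¹).injective b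
  simpa [MulAut.conj_apply] using h

/-- no elements of order `3 r` for a prime `r > 3` -/
theorem no_three_mul (hF : Fintype.card F = 3) (r : ℕ) (hr : r.Prime) (hr2 : r ≠ 2)
    (hr3 : r ≠ 3) (x : ↥(chevG2.group F)) (hx : orderOf x = 3 * r) : False := by
  have := charP_three_of_card hF
  have : Fact (Nat.Prime 3) := ⟨Nat.prime_three⟩
  have : Fact r.Prime := ⟨hr⟩
  have hou : orderOf (x ^ r) = 3 := by
    rw [orderOf_pow_of_dvd hr.ne_zero (by rw [hx]; exact dvd_mul_left _ _), hx,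
      Nat.mul_div_cancel _ hr.pos]
  have hob : orderOf (x ^ 3) = r := by
    rw [orderOf_pow_of_dvd (by norm_num) (by rw [hx]; exact dvd_mul_right _ _), hx,
      Nat.mul_div_cancel_left _ (by norm_num)]
  have hc : Commute (x ^ 3) (x ^ r) := (Commute.refl x).pow_pow 3 r
  have hst := Cfsg.Agent.S2328.result (F := F) 3 chevG2 hDG2 (x ^ r) (by rw [hou])
  rw [steinberg_g2_expand] at hst
  obtain ⟨-, -, htop⟩ := card_parabolicIn (F := F) chevG2 hDG2
  rw [htop] at hst
  unfold fixedPointCharacter at hst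
  rw [fixedBy_top_card] at hst
  have hdvd : ∀ J : Finset ℕ, (J = ∅ ∨ J = {0} ∨ J = {1}) →
      r ∣ Nat.card (MulAction.fixedBy (↥(chevG2.group F) ⧸ chevG2.parabolicIn F J) (x ^ r)) := by
    intro J hJ
    refine dvd_card_fixedBy _ (x ^ r) (x ^ 3) hc r hob ?_
    intro g hg
    have h1 := Subgroup.orderOf_dvd_natCard _ hg
    rw [orderOf_conj', hob] at h1
    rcases prime_dvd_11664 r hr (h1.trans (card_par_dvd hF J hJ)) with h | h
    · exact hr2 h
    · exact hr3 h
  obtain ⟨a, ha⟩ := hdvd ∅ (Or.inl rfl)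
  obtain ⟨b, hb⟩ := hdvd {0} (Or.inr (Or.inl rfl))
  obtain ⟨c, hc'⟩ := hdvd {1} (Or.inr (Or.inr rfl))
  rw [ha, hb, hc'] at hst
  push_cast at hst
  have hst' : ((r * a + 1 : ℕ) : ℂ) = ((r * b + r * c : ℕ) : ℂ) := by
    push_cast
    linear_combination hst
  have hnat : r * a + 1 = r * b + r * c := by exact_mod_cast hst'
  have h1 : r ∣ 1 := by
    have h2 : r ∣ r * b + r * c := ⟨b + c, by ring⟩
    rw [← hnat] at h2
    exact (Nat.dvd_add_right (dvd_mul_right r a)).1 h2
  exact hr.one_lt.ne' (Nat.dvd_one.1 h1)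

/-- no elements of order `2 r` for a prime `r > 3` -/
theorem no_two_mul (hF : Fintype.card F = 3) (r : ℕ) (hr : r.Prime) (hr2 : r ≠ 2)
    (hr3 : r ≠ 3) (x : ↥(chevG2.group F)) (hx : orderOf x = 2 * r) : False := by
  have hot : orderOf (x ^ r) = 2 := by
    rw [orderOf_pow_of_dvd hr.ne_zero (by rw [hx]; exact dvd_mul_left _ _), hx,
      Nat.mul_div_cancel _ hr.pos]
  have hoy : orderOf (x ^ 2) = r := by
    rw [orderOf_pow_of_dvd (by norm_num) (by rw [hx]; exact dvd_mul_right _ _), hx,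
      Nat.mul_div_cancel_left _ (by norm_num)]
  have hodd : Odd (Fintype.card F) := by rw [hF]; decide
  have hcard := (Cfsg.Agent.S4279.result hodd (x ^ r) hot).1
  rw [hF] at hcard
  have hmem : x ^ 2 ∈ Subgroup.centralizer ({x ^ r} : Set ↥(chevG2.group F)) := by
    rw [Subgroup.mem_centralizer_iff]
    intro h hh
    rw [Set.mem_singleton_iff] at hh
    rw [hh]
    exact ((Commute.refl x).pow_pow r 2).eq
  have h1 := Subgroup.orderOf_dvd_natCard _ hmem
  rw [hoy, hcard] at h1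
  rcases prime_dvd_576 r hr (by simpa using h1) with h | h
  · exact hr2 h
  · exact hr3 h

end g2

end Cfsg.Agent.Lib.Helper8.PG
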