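import Mathlib
import Cfsg.Agent.Lib.Helper8.SL2Lin

/-!
# Element orders of `PSL₂(13)` (helper8)

Every element of `PSL₂(F)`, `|F| = 13`, has order dividing `6`, `7` or `13`; there are elements of
order `2`, `3`, `6`, `7`, `13`.
-/

set_option autoImplicit false

namespace Cfsg.Agent.Lib.Helper8.PG

open Matrix Cfsg.Agent.Lib.Helper8.SL2Lin

section General

variable {F : Type*} [Field F]

/-- if the coefficient of `A` in `A ^ (n+1)` vanishes, the image of `A` in `PSL₂` has order
dividing `n + 1` -/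
theorem mk_pow_eq_one_of_sX (A : SpecialLinearGroup (Fin 2) F) (n : ℕ)
    (hx : sX (trace (A : Matrix (Fin 2) (Fin 2) F)) (-1) n = 0) :
    (QuotientGroup.mk A : Matrix.ProjectiveSpecialLinearGroup (Fin 2) F) ^ (n + 1) = 1 := by
  have hpow := pow_succ_lin2 (A : Matrix (Fin 2) (Fin 2) F) _ (-1) (cayley_general A) n
  rw [hx, lin2_zero] at hpow
  have hdet : (sY (trace (A : Matrix (Fin 2) (Fin 2) F)) (-1) n) ^ 2 = 1 := by
    have h := congrArg Matrix.det hpow
    rw [Matrix.det_pow, A.2, one_pow, Matrix.det_smul, Fintype.card_fin, Matrix.det_one,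
      mul_one] at h
    exact h.symm
  exact mk_pow_eq_one A n _ hdet hx rfl

/-- the `(0,1)` entry of `A ^ (n+1)` -/
theorem pow_succ_apply_zero_one (A : SpecialLinearGroup (Fin 2) F) (n : ℕ) :
    ((A : Matrix (Fin 2) (Fin 2) F) ^ (n + 1)) 0 1
      = sX (trace (A : Matrix (Fin 2) (Fin 2) F)) (-1) n * (A : Matrix (Fin 2) (Fin 2) F) 0 1 := by
  rw [pow_succ_lin2 (A : Matrix (Fin 2) (Fin 2) F) _ (-1) (cayley_general A) n]
  unfold lin2
  simp

/-- a power with non-zero `(0,1)` entry is non-trivial in `PSL₂` -/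
theorem mk_pow_ne_one (A : SpecialLinearGroup (Fin 2) F) (n : ℕ)
    (h01 : (A : Matrix (Fin 2) (Fin 2) F) 0 1 ≠ 0)
    (hx : sX (trace (A : Matrix (Fin 2) (Fin 2) F)) (-1) n ≠ 0) :
    (QuotientGroup.mk A : Matrix.ProjectiveSpecialLinearGroup (Fin 2) F) ^ (n + 1) ≠ 1 := by
  rw [← QuotientGroup.mk_pow]
  apply mk_ne_one
  rw [Matrix.SpecialLinearGroup.coe_pow, pow_succ_apply_zero_one]
  exact mul_ne_zero hx h01

/-- the companion matrix of trace `t` -/
def comp (t : F) : SpecialLinearGroup (Fin 2) F :=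
  ⟨!![0, 1; -1, t], by rw [Matrix.det_fin_two]; simp⟩

theorem comp_trace (t : F) : trace ((comp t : SpecialLinearGroup (Fin 2) F) : Matrix (Fin 2) (Fin 2) F) = t := by
  rw [Matrix.trace_fin_two]
  simp [comp]

theorem comp_zero_one (t : F) : ((comp t : SpecialLinearGroup (Fin 2) F) : Matrix (Fin 2) (Fin 2) F) 0 1 = 1 := by
  simp [comp]

end General

section Thirteen

variable {F : Type*} [Field F] [CharP F 13]

theorem thirteen_eq_zero : (13 : F) = 0 := by
  have := CharP.cast_eq_zero F 13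
  exact_mod_cast this

theorem cases13 (t : F) (h13 : t ^ 13 = t) :
    t = 0 ∨ t = 1 ∨ t = -1 ∨ t = 2 ∨ t = -2 ∨ t = 3 ∨ t = -3 ∨ t = 4 ∨ t = -4 ∨ t = 5 ∨ t = -5
      ∨ t = 6 ∨ t = -6 := by
  have hs : (13 : F) = 0 := thirteen_eq_zero
  have h : t * ((t - 1) * ((t + 1) * ((t - 2) * ((t + 2) * ((t - 3) * ((t + 3) * ((t - 4) *
      ((t + 4) * ((t - 5) * ((t + 5) * ((t - 6) * (t + 6)))))))))))) = 0 := by
    linear_combination h13 + ((39877) * t ^ 1 + (-59472) * t ^ 3 + (22792) * t ^ 5
      + (-3421) * t ^ 7 + (231) * t ^ 9 + (-7) * t ^ 11) * hs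
  rcases mul_eq_zero.1 h with h | h
  · exact Or.inl h
  rcases mul_eq_zero.1 h with h | h
  · exact Or.inr (Or.inl (sub_eq_zero.1 h))
  rcases mul_eq_zero.1 h with h | h
  · exact Or.inr (Or.inr (Or.inl (eq_neg_of_add_eq_zero_left h)))
  rcases mul_eq_zero.1 h with h | h
  · exact Or.inr (Or.inr (Or.inr (Or.inl (sub_eq_zero.1 h))))
  rcases mul_eq_zero.1 h with h | h
  · exact Or.inr (Or.inr (Or.inr (Or.inr (Or.inl (eq_neg_of_add_eq_zero_left h)))))
  rcases mul_eq_zero.1 h with h | h
  · exact Or.inr (Or.inr (Or.inr (Or.inr (Or.inr (Or.inl (sub_eq_zero.1 h))))))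
  rcases mul_eq_zero.1 h with h | h
  · exact Or.inr (Or.inr (Or.inr (Or.inr (Or.inr (Or.inr (Or.inl (eq_neg_of_add_eq_zero_left h)))))))
  rcases mul_eq_zero.1 h with h | h
  · exact Or.inr (Or.inr (Or.inr (Or.inr (Or.inr (Or.inr (Or.inr (Or.inl (sub_eq_zero.1 h))))))))
  rcases mul_eq_zero.1 h with h | h
  · exact Or.inr (Or.inr (Or.inr (Or.inr (Or.inr (Or.inr (Or.inr (Or.inr
      (Or.inl (eq_neg_of_add_eq_zero_left h)))))))))
  rcases mul_eq_zero.1 h with h | h
  · exact Or.inr (Or.inr (Or.inr (Or.inr (Or.inr (Or.inr (Or.inr (Or.inr (Or.inr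
      (Or.inl (sub_eq_zero.1 h))))))))))
  rcases mul_eq_zero.1 h with h | h
  · exact Or.inr (Or.inr (Or.inr (Or.inr (Or.inr (Or.inr (Or.inr (Or.inr (Or.inr (Or.inr
      (Or.inl (eq_neg_of_add_eq_zero_left h)))))))))))
  rcases mul_eq_zero.1 h with h | h
  · exact Or.inr (Or.inr (Or.inr (Or.inr (Or.inr (Or.inr (Or.inr (Or.inr (Or.inr (Or.inr (Or.inr
      (Or.inl (sub_eq_zero.1 h))))))))))))
  · exact Or.inr (Or.inr (Or.inr (Or.inr (Or.inr (Or.inr (Or.inr (Or.inr (Or.inr (Or.inr (Or.inr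
      (Or.inr (eq_neg_of_add_eq_zero_left h))))))))))))

/-- the coefficient sequence at the thirteen traces -/
theorem sX_cases (t : F) (h13 : t ^ 13 = t) :
    sX t (-1) 5 = 0 ∨ sX t (-1) 6 = 0 ∨ sX t (-1) 12 = 0 := by
  have hs : (13 : F) = 0 := thirteen_eq_zero
  rcases cases13 t h13 with h | h | h | h | h | h | h | h | h | h | h | h | h
  · left; subst h; simp only [sX]; ring
  · left; subst h; simp only [sX]; ring
  · left; subst h; simp only [sX]; ring
  · right; right; subst h; simp only [sX]; linear_combination (1 : F) * hs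
  · right; right; subst h; simp only [sX]; linear_combination (1 : F) * hs
  · right; left; subst h; simp only [sX]; linear_combination (29 : F) * hs
  · right; left; subst h; simp only [sX]; linear_combination (29 : F) * hs
  · left; subst h; simp only [sX]; linear_combination (60 : F) * hs
  · left; subst h; simp only [sX]; linear_combination (-60 : F) * hs
  · right; left; subst h; simp only [sX]; linear_combination (973 : F) * hs
  · right; left; subst h; simp only [sX]; linear_combination (973 : F) * hs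
  · right; left; subst h; simp only [sX]; linear_combination (3107 : F) * hs
  · right; left; subst h; simp only [sX]; linear_combination (3107 : F) * hs

/-- every element of `PSL₂(13)` has order dividing `6`, `7` or `13` -/
theorem psl13_pow (hF : ∀ t : F, t ^ 13 = t) (g : Matrix.ProjectiveSpecialLinearGroup (Fin 2) F) :
    g ^ 6 = 1 ∨ g ^ 7 = 1 ∨ g ^ 13 = 1 := by
  obtain ⟨A, rfl⟩ := QuotientGroup.mk_surjective g
  rcases sX_cases _ (hF (trace (A : Matrix (Fin 2) (Fin 2) F))) with h | h | h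
  · exact Or.inl (mk_pow_eq_one_of_sX A 5 h)
  · exact Or.inr (Or.inl (mk_pow_eq_one_of_sX A 6 h))
  · exact Or.inr (Or.inr (mk_pow_eq_one_of_sX A 12 h))

/-- an element of order `r s` (distinct primes) of `PSL₂(13)` has order `6` -/
theorem psl13_mul_primes (hF : ∀ t : F, t ^ 13 = t) (g : Matrix.ProjectiveSpecialLinearGroup (Fin 2) F)
    {r s : ℕ} (hr : r.Prime) (hs : s.Prime) (hrs : r ≠ s) (ho : orderOf g = r * s) :
    (r = 2 ∧ s = 3) ∨ (r = 3 ∧ s = 2) := by
  have key : ∀ p : ℕ, p.Prime → r * s ∣ p → False := by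
    intro p hp hd
    rcases (Nat.dvd_prime hp).1 hd with h | h
    · have := hr.two_le; have := hs.two_le; nlinarith
    · have h1 : r ∣ p := Dvd.intro _ h
      have h2 : s ∣ p := Dvd.intro_left _ h
      have e1 := (Nat.prime_dvd_prime_iff_eq hr hp).1 h1
      have e2 := (Nat.prime_dvd_prime_iff_eq hs hp).1 h2
      exact hrs (e1.trans e2.symm)
  rcases psl13_pow hF g with h | h | h
  · have hd : r * s ∣ 6 := ho ▸ orderOf_dvd_of_pow_eq_one h
    have hr6 : r ∣ 2 * 3 := Dvd.dvd.trans (Dvd.intro _ rfl) hd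
    have hs6 : s ∣ 2 * 3 := Dvd.dvd.trans (Dvd.intro_left _ rfl) hd
    have hr' : r = 2 ∨ r = 3 := by
      rcases (Nat.Prime.dvd_mul hr).1 hr6 with h | h
      · exact Or.inl ((Nat.prime_dvd_prime_iff_eq hr Nat.prime_two).1 h)
      · exact Or.inr ((Nat.prime_dvd_prime_iff_eq hr Nat.prime_three).1 h)
    have hs' : s = 2 ∨ s = 3 := by
      rcases (Nat.Prime.dvd_mul hs).1 hs6 with h | h
      · exact Or.inl ((Nat.prime_dvd_prime_iff_eq hs Nat.prime_two).1 h)
      · exact Or.inr ((Nat.prime_dvd_prime_iff_eq hs Nat.prime_three).1 h)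
    rcases hr' with rfl | rfl <;> rcases hs' with rfl | rfl
    · exact absurd rfl hrs
    · exact Or.inl ⟨rfl, rfl⟩
    · exact Or.inr ⟨rfl, rfl⟩
    · exact absurd rfl hrs
  · exact absurd (ho ▸ orderOf_dvd_of_pow_eq_one h) (fun hd => key 7 (by norm_num) hd)
  · exact absurd (ho ▸ orderOf_dvd_of_pow_eq_one h) (fun hd => key 13 (by norm_num) hd)

/-- an element of order `6` -/
theorem psl13_exists_six : ∃ g : Matrix.ProjectiveSpecialLinearGroup (Fin 2) F, orderOf g = 6 := by
  have hs : (13 : F) = 0 := thirteen_eq_zero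
  have h13 : (13 : F) ≠ 1 → True := fun _ => trivial
  have hne : ∀ k : ℕ, 0 < k → k < 13 → (k : F) ≠ 0 := by
    intro k hk hk' h0
    have := (CharP.cast_eq_zero_iff F 13 k).1 h0
    exact absurd (Nat.le_of_dvd hk this) (by omega)
  refine ⟨QuotientGroup.mk (comp (4 : F)), ?_⟩
  apply orderOf_eq_of_pow_and_pow_div_prime (by norm_num)
  · apply mk_pow_eq_one_of_sX (comp (4 : F)) 5
    rw [comp_trace]
    simp only [sX]
    linear_combination (60 : F) * hs
  · intro p hp hpd
    have hp' : p = 2 ∨ p = 3 := by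
      have : p ∣ 2 * 3 := hpd
      rcases (Nat.Prime.dvd_mul hp).1 this with h | h
      · exact Or.inl ((Nat.prime_dvd_prime_iff_eq hp Nat.prime_two).1 h)
      · exact Or.inr ((Nat.prime_dvd_prime_iff_eq hp Nat.prime_three).1 h)
    rcases hp' with rfl | rfl
    · -- exponent 3
      show (QuotientGroup.mk (comp (4 : F)) : Matrix.ProjectiveSpecialLinearGroup (Fin 2) F) ^ (2 + 1) ≠ 1
      apply mk_pow_ne_one
      · rw [comp_zero_one]; exact one_ne_zero
      · rw [comp_trace]
        simp only [sX]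
        have : (4 : F) * (4 * 1 + 0) + -1 * 1 = ((2 : ℕ) : F) := by
          push_cast
          linear_combination (1 : F) * hs
        rw [this]
        exact hne 2 (by norm_num) (by norm_num)
    · -- exponent 2
      show (QuotientGroup.mk (comp (4 : F)) : Matrix.ProjectiveSpecialLinearGroup (Fin 2) F) ^ (1 + 1) ≠ 1
      apply mk_pow_ne_one
      · rw [comp_zero_one]; exact one_ne_zero
      · rw [comp_trace]
        simp only [sX]
        have : (4 : F) * 1 + 0 = ((4 : ℕ) : F) := by push_cast; ring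
        rw [this]
        exact hne 4 (by norm_num) (by norm_num)

/-- the primes dividing `|PSL₂(13)|` -/
theorem prime_dvd_card_psl13 [Finite F] (hF : ∀ t : F, t ^ 13 = t) (p : ℕ) (hp : p.Prime) :
    p ∣ Nat.card (Matrix.ProjectiveSpecialLinearGroup (Fin 2) F)
      ↔ (p = 2 ∨ p = 3 ∨ p = 7 ∨ p = 13) := by
  have hfp : Fact p.Prime := ⟨hp⟩
  have hs : (13 : F) = 0 := thirteen_eq_zero
  constructor
  · intro h
    obtain ⟨g, hg⟩ := exists_prime_orderOf_dvd_card' p h
    rcases psl13_pow hF g with h | h | h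
    · have : p ∣ 2 * 3 := hg ▸ orderOf_dvd_of_pow_eq_one h
      rcases (Nat.Prime.dvd_mul hp).1 this with h | h
      · exact Or.inl ((Nat.prime_dvd_prime_iff_eq hp Nat.prime_two).1 h)
      · exact Or.inr (Or.inl ((Nat.prime_dvd_prime_iff_eq hp Nat.prime_three).1 h))
    · have : p ∣ 7 := hg ▸ orderOf_dvd_of_pow_eq_one h
      exact Or.inr (Or.inr (Or.inl ((Nat.prime_dvd_prime_iff_eq hp (by norm_num)).1 this)))
    · have : p ∣ 13 := hg ▸ orderOf_dvd_of_pow_eq_one h
      exact Or.inr (Or.inr (Or.inr ((Nat.prime_dvd_prime_iff_eq hp (by norm_num)).1 this)))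
  · have h2 : Fact (Nat.Prime 2) := ⟨Nat.prime_two⟩
    have h3 : Fact (Nat.Prime 3) := ⟨Nat.prime_three⟩
    have h7 : Fact (Nat.Prime 7) := ⟨by norm_num⟩
    have h13 : Fact (Nat.Prime 13) := ⟨by norm_num⟩
    have aux : ∀ (t : F) (n : ℕ), (n + 1).Prime → sX t (-1) n = 0 →
        (n + 1) ∣ Nat.card (Matrix.ProjectiveSpecialLinearGroup (Fin 2) F) := by
      intro t n hn hx
      have : Fact (n + 1).Prime := ⟨hn⟩
      have ho : orderOf (QuotientGroup.mk (comp t) : Matrix.ProjectiveSpecialLinearGroup (Fin 2) F)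
          = n + 1 := by
        apply orderOf_eq_prime
        · apply mk_pow_eq_one_of_sX
          rw [comp_trace]
          exact hx
        · apply mk_ne_one
          rw [comp_zero_one]
          exact one_ne_zero
      have hdvd := orderOf_dvd_natCard
        (QuotientGroup.mk (comp t) : Matrix.ProjectiveSpecialLinearGroup (Fin 2) F)
      rwa [ho] at hdvd
    rintro (rfl | rfl | rfl | rfl)
    · exact aux 0 1 Nat.prime_two (by simp only [sX]; ring)
    · exact aux 1 2 Nat.prime_three (by simp only [sX]; ring)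
    · exact aux 3 6 (by norm_num) (by simp only [sX]; linear_combination (29 : F) * hs)
    · exact aux 2 12 (by norm_num) (by simp only [sX]; linear_combination (1 : F) * hs)

end Thirteen

end Cfsg.Agent.Lib.Helper8.PG
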